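import Cfsg.Agent.H419.EP.Soc
import Cfsg.Agent.H117.EP.ModelPSL
import Cfsg.Agent.H277.ClsPsl
import Cfsg.Agent.H277.ClsPsu
import Cfsg.Agent.H933.HT.U33T
import Cfsg.Agent.S5809
import Cfsg.Agent.S5812

/-!
# S3499, residual class of `SL_7(q)` and `SU_7(q)` (lists S5809, S5812; socle `U_3(3)`)  (helper610)
-/

set_option autoImplicit false

open Cfsg

namespace Cfsg.Agent.H610.EP

open Subgroup Cfsg.Agent.H284 Cfsg.Agent.H419.EP
open scoped MatrixGroups

/-- the index bound for the socle `U_3(3)` (task 5949) -/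
def BoundU33 : Prop := ∀ {Q : Type} [Group Q] [Finite Q], IsSimpleGroup Q → ∀ {A : Subgroup Q}
    {Γ : Subgroup (MulAut Q)}, EPT A Γ → ∀ {K : Type} [Field K] [Fintype K], Fintype.card K = 9 →
    HasSoc A (PSU 3 K 3) → A.index ≤ 379000

/-- two groups with the same model have the same order -/
theorem model_card {Q Q' : Type*} [Group Q] [Group Q'] {ι : Type} [Fintype ι] [DecidableEq ι] {F : Type*} [Field F]
    {S : Subgroup (GL ι F)} (m : Model Q S) (m' : Model Q' S) : Nat.card Q = Nat.card Q' := by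
  have hk : m.π.ker = m'.π.ker := by
    ext s
    rw [MonoidHom.mem_ker, MonoidHom.mem_ker, m.ker, m'.ker]
  exact Nat.card_congr ((QuotientGroup.quotientKerEquivOfSurjective m.π m.surj).symm.trans
    ((QuotientGroup.quotientMulEquivOfEq hk).trans
      (QuotientGroup.quotientKerEquivOfSurjective m'.π m'.surj))).toEquiv

theorem card_le (hB : BoundU33) {Q : Type} [Group Q] [Finite Q] (hs : IsSimpleGroup Q) {A : Subgroup Q}
    {Γ : Subgroup (MulAut Q)} (h : EPT A Γ) {K : Type} [Field K] [Fintype K] (hK : Fintype.card K = 9)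
    (hsoc : HasSoc A (PSU 3 K 3)) : Nat.card Q ≤ 12096 * 379000 := by
  have h1 : A.index ≤ 379000 := hB hs h hK hsoc
  have h2 : Nat.card A ≤ 12096 := hsoc.card_le.trans (H933.HT.u33_aut (by rw [hK]; norm_num)).le
  rw [← A.card_mul_index]
  exact Nat.mul_le_mul h2 h1

/-- **S5809 row**: `SL_7(q)` -/
theorem row_sl7 (hB : BoundU33) {Q : Type} [Group Q] [Finite Q] (hs : IsSimpleGroup Q) {A : Subgroup Q}
    {Γ : Subgroup (MulAut Q)} (h : EPT A Γ) {F : Type} [Field F] [Fintype F]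
    (m : Model Q (Cfsg.Geo.specialLinear (Fin 7) F)) (hres : Cfsg.Geo.InLinearResidualClass (m.hat A)) : False := by
  obtain ⟨P, p, hP, hp, hF, hp4, K, iK, iK', hK, ⟨e⟩⟩ := S5809.result (m.hat A) (m.isMaximalIn h.max) hres
  have h1 := card_le hB hs h hK ((hasSoc_of_core m hP).congr e)
  obtain ⟨m'⟩ := H117.EP.model_PSL (F := F) (n := 7) (by norm_num)
  rw [model_card m m'] at h1
  have h2 := H277.ClsPsl.card_psl hF (n := 7) (by norm_num)
  have h3 : 5 ≤ p := by
    have := hp.two_le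
    omega
  have h4 : Nat.gcd 7 (p - 1) ≤ 7 := Nat.gcd_le_left _ (by norm_num)
  have h5 : 5 ^ 21 ≤ p ^ (7 * (7 - 1) / 2) * ∏ i ∈ Finset.range (7 - 1), (p ^ (i + 2) - 1) := by
    calc 5 ^ 21 ≤ p ^ 21 := Nat.pow_le_pow_left h3 21
      _ = p ^ 21 * 1 := (mul_one _).symm
      _ ≤ _ := by
        refine Nat.mul_le_mul le_rfl (Nat.succ_le_of_lt (Finset.prod_pos fun i _ => ?_))
        exact Nat.sub_pos_of_lt (Nat.one_lt_pow (by omega) (by omega))
  rw [← h2] at h5
  have h6 : Nat.gcd 7 (p - 1) * Nat.card (Matrix.ProjectiveSpecialLinearGroup (Fin 7) F) ≤ 7 * (12096 * 379000) :=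
    Nat.mul_le_mul h4 h1
  have h7 := h5.trans h6
  norm_num at h7

/-- **S5812 row**: `SU_7(q)` -/
theorem row_su7 (hB : BoundU33) {Q : Type} [Group Q] [Finite Q] (hs : IsSimpleGroup Q) {A : Subgroup Q}
    {Γ : Subgroup (MulAut Q)} (h : EPT A Γ) {F : Type} [Field F] [Fintype F] {q : ℕ} (hF : Fintype.card F = q ^ 2)
    (m : Model Q (Cfsg.GU 7 F q ⊓ Cfsg.Geo.specialLinear (Fin 7) F))
    (hres : Cfsg.Geo.InUnitaryResidualClass (m.hat A)) : False := by
  obtain ⟨P, hP, hp, hp4, hq3, K, iK, iK', hK, ⟨e⟩⟩ := S5812.result q hF (m.hat A) (m.isMaximalIn h.max) hres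
  have h1 := card_le hB hs h hK ((hasSoc_of_core m hP).congr e)
  obtain ⟨m'⟩ := H117.EP.model_PSU (F := F) (n := 7) hF (by norm_num)
  rw [model_card m m'] at h1
  have h2 := H277.ClsPsu.card_psu hF (n := 7) (by norm_num)
  have h3 : 5 ≤ q := by omega
  have h4 : Nat.gcd 7 (q + 1) ≤ 7 := Nat.gcd_le_left _ (by norm_num)
  have h5 : 5 ^ 21 ≤ q ^ (7 * (7 - 1) / 2) *
      ∏ i ∈ Finset.range (7 - 1), (if Even i then q ^ (i + 2) - 1 else q ^ (i + 2) + 1) := by
    calc 5 ^ 21 ≤ q ^ 21 := Nat.pow_le_pow_left h3 21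
      _ = q ^ 21 * 1 := (mul_one _).symm
      _ ≤ _ := by
        refine Nat.mul_le_mul le_rfl (Nat.succ_le_of_lt (Finset.prod_pos fun i _ => ?_))
        split_ifs
        · exact Nat.sub_pos_of_lt (Nat.one_lt_pow (by omega) (by omega))
        · omega
  rw [← h2] at h5
  have h6 : Nat.gcd 7 (q + 1) * Nat.card (PSU 7 F q) ≤ 7 * (12096 * 379000) := Nat.mul_le_mul h4 h1
  have h7 := h5.trans h6
  norm_num at h7

end Cfsg.Agent.H610.EP
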